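import Cfsg.Agent.Lib.JankoFour.Recog.OfHyps
import Cfsg.Agent.Lib.LargeExtra.SubExtra

/-!
# The element of order three and the transfer to Janko-four type
-/

set_option autoImplicit false
set_option linter.unusedSectionVars false
set_option maxHeartbeats 1600000

namespace CfsgLib.JankoFour.Recog

open Subgroup Cfsg
open scoped commutatorElement

universe u

variable {C : Type u} [Group C] [Finite C] {z : C} {Q N M : Subgroup C}

theorem CentHyps.index_QN (h : CentHyps z Q N M) : (Q.subgroupOf N).index = 3 := by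
  have h1 := (Q.subgroupOf N).card_mul_index
  rw [Nat.card_congr (subgroupOfEquivOfLe h.QN).toEquiv, h.cardN, h.cardQ] at h1
  omega

/-- `N ⧸ Q` is generated by any element outside `Q`. -/
theorem CentHyps.gen_N (h : CentHyps z Q N M) {p n : C} (hp : p ∈ N) (hpQ : p ∉ Q) (hn : n ∈ N) :
    ∃ i : ℕ, (p ^ i)⁻¹ * n ∈ Q := by
  haveI := h.nQ
  haveI : Fact (Nat.Prime 3) := ⟨Nat.prime_three⟩
  have hc : Nat.card (N ⧸ Q.subgroupOf N) = 3 := by rw [← index_eq_card, h.index_QN]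
  have hne : (QuotientGroup.mk (⟨p, hp⟩ : N) : N ⧸ Q.subgroupOf N) ≠ 1 := fun e =>
    hpQ (mem_subgroupOf.1 ((QuotientGroup.eq_one_iff _).1 e))
  obtain ⟨i, hi⟩ := (Submonoid.mem_powers_iff _ _).1
    (mem_powers_of_prime_card (g' := (QuotientGroup.mk (⟨n, hn⟩ : N) : N ⧸ Q.subgroupOf N)) hc hne)
  refine ⟨i, ?_⟩
  have h1 := QuotientGroup.eq.1 (((QuotientGroup.mk' (Q.subgroupOf N)).map_pow ⟨p, hp⟩ i).trans hi)
  simpa using mem_subgroupOf.1 h1

/-- The facts about the element of order three. -/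
theorem CentHyps.exists_three (h : CentHyps z Q N M) : ∃ p ∈ N, orderOf p = 3 ∧
    (∀ q ∈ Q, q * p = p * q → q ∈ zpowers z) ∧
    (∃ c : C, c * p * c⁻¹ ∈ zpowers p ∧ c * p * c⁻¹ ≠ p) ∧
    p ∈ ⁅centralizer (zpowers p : Set C), centralizer (zpowers p : Set C)⁆ := by
  classical
  haveI : Fact (Nat.Prime 3) := ⟨Nat.prime_three⟩
  haveI := h.nQ
  haveI := h.nN
  haveI := h.nM
  have hzz : z * z = 1 := by rw [← pow_two, ← h.z2, pow_orderOf_eq_one]
  obtain ⟨⟨p, hpN⟩, hp⟩ := exists_prime_orderOf_dvd_card' (G := N) 3 (h.cardN ▸ dvd_mul_right 3 _)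
  rw [Subgroup.orderOf_mk] at hp
  refine ⟨p, hpN, hp, ?_⟩
  have hpM : p ∈ M := h.NM hpN
  have hp3 : p ^ 3 = 1 := by rw [← hp, pow_orderOf_eq_one]
  have hpQ : p ∉ Q := fun hq => by
    have h1 : orderOf p ∣ 2 ^ 13 := h.cardQ ▸ orderOf_dvd_natCard Q hq
    rw [hp] at h1
    norm_num at h1
  have hfix2 : ∀ q r : C, r ∈ Q → (p * r * p⁻¹ = r * q) → q ∈ zpowers z → p * r * p⁻¹ = r := by
    intro q r _ hr hq
    obtain ⟨i, rfl⟩ := mem_zpowers_iff.1 hq
    have hcp : p * z ^ i * p⁻¹ = z ^ i :=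
      mul_inv_eq_iff_eq_mul.2 ((show Commute p z from h.zc p).zpow_right i).eq
    have h2 : z ^ i * z ^ i = 1 := by rw [← (Commute.refl z).mul_zpow, hzz, one_zpow]
    have e3 : r = r * (z ^ i * (z ^ i * z ^ i)) := by
      calc r = p * p * p * r * (p * p * p)⁻¹ := by
            rw [show p * p * p = 1 from by rw [← hp3, pow_succ, pow_two]]; group
        _ = p * (p * (p * r * p⁻¹) * p⁻¹) * p⁻¹ := by group
        _ = p * (p * (r * z ^ i) * p⁻¹) * p⁻¹ := by rw [hr]
        _ = p * (p * r * p⁻¹ * (p * z ^ i * p⁻¹)) * p⁻¹ := by group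
        _ = p * (r * z ^ i * z ^ i) * p⁻¹ := by rw [hr, hcp]
        _ = p * r * p⁻¹ * (z ^ i * z ^ i) := by rw [mul_assoc r, h2]; group
        _ = _ := by rw [hr, mul_assoc]
    rw [h2, mul_one, left_eq_mul] at e3
    rw [hr, e3, mul_one]
  obtain ⟨f, e, hfs, hfk, hes, hek, hfe⟩ := h.exists_hom
  obtain ⟨σ, a, b, ha, hb, ha1, hba, hab, hσa, hσb⟩ := exists_det_neg_one
  obtain ⟨⟨A, hA⟩, hAa⟩ := hes a
  obtain ⟨⟨B, hB⟩, hBb⟩ := hes b
  obtain ⟨c, hcσ⟩ := hfs σ
  set π := QuotientGroup.mk' Q with hπ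
  have hπQ : ∀ q, π q = 1 ↔ q ∈ Q := fun q => QuotientGroup.eq_one_iff q
  have hcenN : ∀ m ∈ M, ∀ n ∈ N, π m * π n = π n * π m := fun m hm n hn => by
    rw [← commutatorElement_eq_one_iff_mul_comm, ← map_commutatorElement, hπQ]
    exact h.cent (commutator_mem_commutator hm hn)
  have hAB : π A * π B * (π A)⁻¹ * (π B)⁻¹ ∈ N.map π := by
    refine ⟨A * B * A⁻¹ * B⁻¹, ?_, by simp⟩
    have : (⟨A, hA⟩ * ⟨B, hB⟩ * (⟨A, hA⟩ : M)⁻¹ * (⟨B, hB⟩ : M)⁻¹ : M) ∈ e.ker := by
      rw [MonoidHom.mem_ker, map_mul, map_mul, map_mul, map_inv, map_inv, hAa, hBb, ← hba]; group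
    rw [hek] at this
    exact mem_subgroupOf.1 this
  -- the triple cover
  have hnc : π A * π B ≠ π B * π A := by
    let X := M.map π
    let η0 : M →* X := π.subgroupMap M
    have hη0 : Function.Surjective η0 := π.subgroupMap_surjective M
    have hkle : η0.ker ≤ e.ker := fun m hm => by
      rw [hek, mem_subgroupOf]
      exact h.QN ((hπQ m).1 (congrArg Subtype.val hm))
    let η : X →* ↥Spor.M22 := MonoidHom.liftOfSurjective η0 hη0 ⟨e, hkle⟩
    have hηe : ∀ m : M, η (η0 m) = e m := fun m => MonoidHom.liftOfRightInverse_comp_apply _ _ _ ⟨e, hkle⟩ m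
    have hηs : Function.Surjective η := fun y => by
      obtain ⟨m, rfl⟩ := hes y; exact ⟨η0 m, hηe m⟩
    have hp0 : (π p) ∈ X := mem_map_of_mem π hpM
    have hzker : (⟨π p, hp0⟩ : X) ∈ η.ker := by
      rw [MonoidHom.mem_ker, show (⟨π p, hp0⟩ : X) = η0 ⟨p, hpM⟩ from rfl, hηe, ← MonoidHom.mem_ker, hek]
      exact mem_subgroupOf.2 hpN
    have hkerN : ∀ x : X, x ∈ η.ker → ∃ i : ℕ, x = (⟨π p, hp0⟩ : X) ^ i := by
      intro x hx
      obtain ⟨m, rfl⟩ := hη0 x
      rw [MonoidHom.mem_ker, hηe, ← MonoidHom.mem_ker, hek, mem_subgroupOf] at hx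
      obtain ⟨i, hi⟩ := h.gen_N hpN hpQ hx
      refine ⟨i, Subtype.ext ?_⟩
      show π (m : C) = π p ^ i
      have h1 := (hπQ _).2 hi
      rw [map_mul, map_inv, map_pow, inv_mul_eq_one] at h1
      exact h1.symm
    have hne : (⟨π p, hp0⟩ : X) ≠ 1 := fun e1 => hpQ ((hπQ p).1 (congrArg Subtype.val e1))
    have hcube : (⟨π p, hp0⟩ : X) ^ 3 = 1 := Subtype.ext (by
      rw [SubgroupClass.coe_pow, ← map_pow, hp3, map_one]; rfl)
    have hkcard : Nat.card η.ker = 3 := by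
      have : η.ker = zpowers (⟨π p, hp0⟩ : X) := le_antisymm (fun x hx => by
        obtain ⟨i, rfl⟩ := hkerN x hx; exact pow_mem (mem_zpowers _) i) (zpowers_le.2 hzker)
      rw [this, Nat.card_zpowers, orderOf_eq_prime hcube hne]
    have hperf : commutator X = ⊤ := by
      have hbot : Q.map π = ⊥ := eq_bot_iff.2 (by
        rintro _ ⟨q, hq, rfl⟩
        exact (hπQ q).2 hq)
      have h1 : M.map π ≤ ⁅M.map π, M.map π⁆ := by
        calc M.map π ≤ (⁅M, M⁆ ⊔ Q).map π := map_mono h.perf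
          _ = ⁅M.map π, M.map π⁆ := by rw [Subgroup.map_sup, map_commutator, hbot, sup_bot_eq]
      refine eq_top_iff.2 fun x _ => ?_
      have h2 : (x : C ⧸ Q) ∈ (commutator X).map X.subtype := by
        rw [_root_.commutator_def, map_commutator, ← MonoidHom.range_eq_map, range_subtype]
        exact h1 x.2
      obtain ⟨y, hy, hyx⟩ := h2
      exact Subtype.ext hyx ▸ hy
    have hzc : ∀ g : X, g * ⟨π p, hp0⟩ = ⟨π p, hp0⟩ * g := fun g => by
      obtain ⟨m, rfl⟩ := hη0 g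
      exact Subtype.ext (hcenN m m.2 p hpN)
    intro hcm
    exact no_commuting_lifts η hηs hperf hkcard CfsgLib.Golay.card_sporM22 hzker hne hzc
      (A := η0 ⟨A, hA⟩) (B := η0 ⟨B, hB⟩) ((hηe _).trans hAa) ((hηe _).trans hBb) ha hb ha1 hab
      (Subtype.ext hcm)
  -- the commutator of the lifts
  obtain ⟨n, hn, hnk⟩ := hAB
  obtain ⟨i, hi⟩ := h.gen_N hpN hpQ hn
  have hni : π n = π p ^ i := by
    have h1 := (hπQ _).2 hi
    rw [map_mul, map_inv, map_pow, inv_mul_eq_one] at h1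
    exact h1.symm
  have hπp3 : π p ^ 3 = 1 := by rw [← map_pow, hp3, map_one]
  have hi3 : ¬ 3 ∣ i := fun ⟨j, hj⟩ => hnc (by
    rw [hni, hj, pow_mul, hπp3, one_pow] at hnk
    rw [← commutatorElement_eq_one_iff_mul_comm, commutatorElement_def]; exact hnk.symm)
  have hABk : π A * π B = π p ^ i * (π B * π A) := by rw [← hni, hnk]; group
  -- the action on `Q` modulo its centre
  obtain ⟨Zc, hZc⟩ : ∃ Zc : Subgroup C, Zc = zpowers z := ⟨_, rfl⟩
  haveI hZn : Zc.Normal := ⟨fun q hq g => by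
    obtain ⟨j, rfl⟩ := mem_zpowers_iff.1 (hZc ▸ hq)
    rw [((show Commute g z from h.zc g).zpow_right j).eq, mul_inv_cancel_right]
    exact hZc ▸ zpow_mem_zpowers z j⟩
  set τ := QuotientGroup.mk' Zc with hτ
  obtain ⟨W, hW⟩ : ∃ W : Subgroup (C ⧸ Zc), W = Q.map τ := ⟨_, rfl⟩
  haveI hWn : W.Normal := hW ▸ h.nQ.map τ (QuotientGroup.mk'_surjective Zc)
  have hZQ : Zc ≤ Q := hZc ▸ zpowers_le.2 h.zQ
  have hτeq : ∀ q r : C, τ q = τ r ↔ q⁻¹ * r ∈ zpowers z := fun q r => hZc ▸ QuotientGroup.eq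
  have hWc : ∀ u ∈ W, ∀ v ∈ W, u * v = v * u := by
    rw [hW]; rintro _ ⟨q, hq, rfl⟩ _ ⟨r, hr, rfl⟩
    rw [← map_mul, ← map_mul, hτeq]
    have := h.comm_mem (inv_mem hr) (inv_mem hq)
    rwa [show r⁻¹ * q⁻¹ * r⁻¹⁻¹ * q⁻¹⁻¹ = (q * r)⁻¹ * (r * q) by group] at this
  have hWsq : ∀ u ∈ W, u * u = 1 := by
    rw [hW]; rintro _ ⟨q, hq, rfl⟩
    rw [← map_mul, ← map_one τ, hτeq]
    simpa using inv_mem (h.sq_mem hq)
  letI : CommGroup W :=
    { (inferInstance : Group W) with mul_comm := fun u v => Subtype.ext (hWc u u.2 v v.2) }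
  have hWcard : Nat.card W = 2 ^ 12 := by
    have h1 := CfsgLib.Solvable.card_comap_mk' Zc W
    rw [hW, comap_map_eq, QuotientGroup.ker_mk', sup_eq_left.2 hZQ, h.cardQ] at h1
    have h2 : Nat.card Zc = 2 := by rw [hZc, Nat.card_zpowers, h.z2]
    rw [h2] at h1
    subst hW
    omega
  let ρ : C →* MulAut W := (MulAut.conjNormal (H := W)).comp τ
  have hρ : ∀ g (w : W), ((ρ g w : W) : C ⧸ Zc) = τ g * w * (τ g)⁻¹ := fun g w => MulAut.conjNormal_apply _ _
  have hρQ : ∀ q ∈ Q, ρ q = 1 := fun q hq => MulEquiv.ext fun w => Subtype.ext (by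
    rw [hρ, hWc (τ q) (hW ▸ mem_map_of_mem τ hq) _ w.2, mul_inv_cancel_right]; rfl)
  have hρeq : ∀ g g' : C, π g = π g' → ρ g = ρ g' := fun g g' hg => by
    have h1 : g⁻¹ * g' ∈ Q := QuotientGroup.eq.1 hg
    rw [show g' = g * (g⁻¹ * g') by group, map_mul, hρQ _ h1, mul_one]
  let ρM : M →* MulAut W := ρ.comp M.subtype
  have hρp1 : ρ p ≠ 1 := fun h1 => hpQ (h.selfc (mem_centralizer_iff.2 fun q hq => by
    have h2 := congrArg Subtype.val (DFunLike.congr_fun h1 (⟨τ q, hW ▸ mem_map_of_mem τ hq⟩ : W))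
    rw [hρ] at h2
    have h3 : τ (p * q * p⁻¹) = τ q := by simpa using h2
    rw [hτeq] at h3
    have h4 := hfix2 ((q⁻¹ * (p * q * p⁻¹))) q hq (by group)
      (by simpa [mul_assoc] using inv_mem h3)
    exact (mul_inv_eq_iff_eq_mul.1 h4).symm))
  have hlift : ∀ (m : C) (hm : m ∈ M) (y : ↥Spor.M22), e ⟨m, hm⟩ = y → y ^ 3 = 1 →
      ρ m ^ 3 ∈ zpowers (ρ p) := by
    intro m hm y hy hy3
    have h1 : (⟨m, hm⟩ : M) ^ 3 ∈ e.ker := by rw [MonoidHom.mem_ker, map_pow, hy, hy3]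
    rw [hek, mem_subgroupOf, SubgroupClass.coe_pow] at h1
    obtain ⟨j, hj⟩ := h.gen_N hpN hpQ h1
    rw [← map_pow, show m ^ 3 = p ^ j * ((p ^ j)⁻¹ * m ^ 3) by group, map_mul, hρQ _ hj, mul_one, map_pow]
    exact pow_mem (mem_zpowers _) j
  -- an element of order eleven
  obtain ⟨x, hx, hxne⟩ : ∃ x : M, ρM x ^ 11 = 1 ∧ e x ≠ 1 := by
    haveI : Fact (Nat.Prime 11) := ⟨by norm_num⟩
    obtain ⟨y, hy⟩ := exists_prime_orderOf_dvd_card' (G := ↥Spor.M22) 11
      (by rw [CfsgLib.Golay.card_sporM22]; norm_num)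
    obtain ⟨x, rfl⟩ := hes y
    refine ⟨x ^ 3, ?_, ?_⟩
    · have h1 : x ^ 11 ∈ e.ker := by rw [MonoidHom.mem_ker, map_pow, ← hy, pow_orderOf_eq_one]
      rw [hek, mem_subgroupOf, SubgroupClass.coe_pow] at h1
      obtain ⟨j, hj⟩ := h.gen_N hpN hpQ h1
      rw [← map_pow, ← pow_mul, mul_comm, pow_mul, map_pow]
      show ρ ((x ^ 11 : M) : C) ^ 3 = 1
      rw [SubgroupClass.coe_pow, show (x : C) ^ 11 = p ^ j * ((p ^ j)⁻¹ * (x : C) ^ 11) by group,
        map_mul, hρQ _ hj, mul_one, ← map_pow, ← pow_mul, mul_comm, pow_mul, hp3, one_pow, map_one]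
    · intro h1
      rw [map_pow] at h1
      have := orderOf_dvd_of_pow_eq_one h1
      rw [hy] at this
      norm_num at this
  have hfpf := fixed_point_free (fun w : W => Subtype.ext (hWsq w w.2)) hWcard ρM
    (p := ⟨p, hpM⟩) (x := x) (a := ⟨B, hB⟩) (b := ⟨A, hA⟩)
    (show ρ p ^ 3 = 1 by rw [← map_pow, hp3, map_one]) hx
    (fun m => by
      show ρ (m : C) * ρ p = ρ p * ρ (m : C)
      rw [← map_mul, ← map_mul]
      exact hρeq _ _ (by rw [map_mul, map_mul]; exact hcenN m m.2 p hpN))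
    (hlift B hB b hBb hb) (hlift A hA a hAa ha)
    ⟨i, hi3, by
      show ρ A * ρ B = ρ p ^ i * (ρ B * ρ A)
      rw [← map_mul, ← map_mul, ← map_pow, ← map_mul]
      exact hρeq _ _ (by rw [map_mul, map_mul, map_pow, map_mul]; exact hABk)⟩
    hρp1
    (by
      intro K hK hkle hxK
      haveI := hK
      haveI := CfsgLib.Golay.sporM22_simple
      haveI : (K.map e).Normal := hK.map e hes
      have htop : K.map e = ⊤ := (inferInstance : (K.map e).Normal).eq_bot_or_eq_top.resolve_left fun hb =>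
        hxne (by rw [← mem_bot, ← hb]; exact mem_map_of_mem e hxK)
      let κ := QuotientGroup.mk' K
      have hQK : ∀ m : M, (m : C) ∈ Q → κ m = 1 := fun m hm =>
        (QuotientGroup.eq_one_iff m).2 (hkle (hρQ _ hm))
      have hNcen : ∀ n : M, (n : C) ∈ N → ∀ m : M, Commute (κ n) (κ m) := by
        intro n hn m
        refine commutatorElement_eq_one_iff_commute.1 ?_
        rw [← map_commutatorElement]
        refine hQK _ ?_
        have := (hπQ ⁅(n : C), (m : C)⁆).1 (by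
          rw [map_commutatorElement, commutatorElement_eq_one_iff_mul_comm]
          exact (hcenN m m.2 n hn).symm)
        simpa [commutatorElement_def] using this
      have hsplit : ∀ m : M, ∃ n : M, (n : C) ∈ N ∧ κ m = κ n := fun m => by
        obtain ⟨k, hk, hke⟩ := (htop ▸ mem_top (e m) : e m ∈ K.map e)
        refine ⟨k⁻¹ * m, ?_, ?_⟩
        · have : k⁻¹ * m ∈ e.ker := by rw [MonoidHom.mem_ker, map_mul, map_inv, hke, inv_mul_cancel]
          rw [hek] at this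
          exact mem_subgroupOf.1 this
        · rw [map_mul, map_inv, show κ k = 1 from (QuotientGroup.eq_one_iff k).2 hk, inv_one, one_mul]
      have hab' : ∀ m m' : M, Commute (κ m) (κ m') := fun m m' => by
        obtain ⟨n, hn, e1⟩ := hsplit m
        rw [e1]
        exact hNcen n hn m'
      have hcommK : (commutator M) ≤ K := by
        rw [_root_.commutator_def, commutator_le]
        intro m _ m' _
        rw [← QuotientGroup.eq_one_iff]
        exact (map_commutatorElement κ m m').trans (commutatorElement_eq_one_iff_commute.2 (hab' m m'))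
      have h1 : p ∈ (K ⊔ Q.subgroupOf M).map M.subtype := by
        refine (sup_le ?_ ?_ : ⁅M, M⁆ ⊔ Q ≤ _) (h.perf hpM)
        · have h2 := map_mono (f := M.subtype) (hcommK.trans le_sup_left : commutator M ≤ K ⊔ Q.subgroupOf M)
          rwa [_root_.commutator_def, map_commutator, ← MonoidHom.range_eq_map, range_subtype] at h2
        · exact fun q hq => mem_map.2 ⟨⟨q, (h.QN.trans h.NM) hq⟩, mem_sup_right (mem_subgroupOf.2 hq), rfl⟩
      obtain ⟨m, hm, hmp⟩ := h1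
      have hle : K ⊔ Q.subgroupOf M ≤ K := sup_le le_rfl fun q hq => hkle (hρQ _ (mem_subgroupOf.1 hq))
      exact (Subtype.ext hmp : m = ⟨p, hpM⟩) ▸ hle hm)
  have hCQ : ∀ q ∈ Q, q * p = p * q → q ∈ zpowers z := fun q hq hqp => by
    have hw := hfpf ⟨τ q, hW ▸ mem_map_of_mem τ hq⟩ (Subtype.ext (by
      show ((ρ p ⟨τ q, _⟩ : W) : C ⧸ Zc) = τ q
      rw [hρ, ← map_mul, ← hqp, map_mul, mul_inv_cancel_right]))
    have h1 : τ q = τ 1 := by rw [map_one]; exact congrArg Subtype.val hw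
    rw [hτeq, mul_one] at h1
    simpa using inv_mem h1
  -- conjugates of `p` inside `N`
  let P : Sylow 3 N := Sylow.ofCard (zpowers (⟨p, hpN⟩ : N)) (by
    rw [Nat.card_zpowers, Subgroup.orderOf_mk, hp, h.cardN, h.cardQ, Nat.factorization_mul (by norm_num) (by norm_num)]
    rw [Nat.factorization_pow, Finsupp.add_apply, Finsupp.smul_apply,
      Nat.prime_three.factorization_self, Nat.prime_two.factorization, Finsupp.single_apply]
    simp)
  have hfrat : ∀ g : C, ∃ q ∈ Q, (q * g) * p * (q * g)⁻¹ ∈ zpowers p := by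
    intro g
    have hgN : g * p * g⁻¹ ∈ N := h.nN.conj_mem p hpN g
    have h3 : IsPGroup 3 (zpowers (⟨g * p * g⁻¹, hgN⟩ : N)) := IsPGroup.of_card (n := 1) (by
      rw [Nat.card_zpowers, Subgroup.orderOf_mk, ← MulAut.conj_apply, MulEquiv.orderOf_eq, hp, pow_one])
    obtain ⟨R, hR⟩ := h3.exists_le_sylow
    obtain ⟨u, hu⟩ := MulAction.exists_smul_eq N R P
    have h4 : u * ⟨g * p * g⁻¹, hgN⟩ * u⁻¹ ∈ (zpowers (⟨p, hpN⟩ : N)) := by
      have h5 : u * ⟨g * p * g⁻¹, hgN⟩ * u⁻¹ ∈ (P : Subgroup N) := by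
        rw [← hu]; exact ⟨_, hR (mem_zpowers _), rfl⟩
      exact h5
    obtain ⟨j, hj⟩ := mem_zpowers_iff.1 h4
    have hj' : p ^ j = (u : C) * (g * p * g⁻¹) * (u : C)⁻¹ := by simpa using congrArg Subtype.val hj
    obtain ⟨k, hk⟩ := h.gen_N hpN hpQ u.2
    refine ⟨(p ^ k)⁻¹ * u, hk, ?_⟩
    refine mem_zpowers_iff.2 ⟨j, ?_⟩
    calc p ^ j = (p ^ k)⁻¹ * p ^ j * p ^ k := by
          have : Commute (p ^ j) (p ^ k) := ((Commute.refl p).zpow_left j).pow_right k
          rw [mul_assoc, this.eq, inv_mul_cancel_left]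
      _ = _ := by rw [hj']; group
  have hpcase : ∀ y ∈ zpowers p, π y = π p → y = p := by
    intro y hy he
    obtain ⟨j, rfl⟩ := mem_zpowers_iff.1 hy
    rw [map_zpow] at he
    have hop : orderOf (π p) = 3 := orderOf_eq_prime hπp3 (fun e1 => hpQ ((hπQ p).1 e1))
    have h1 : (π p) ^ (j - 1) = 1 := by rw [zpow_sub, he, zpow_one, mul_inv_cancel]
    rw [← orderOf_dvd_iff_zpow_eq_one, hop, ← hp, orderOf_dvd_iff_zpow_eq_one, zpow_sub, zpow_one,
      mul_inv_eq_one] at h1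
    exact h1
  have hCPM : ∀ m ∈ M, ∃ q ∈ Q, q * m ∈ centralizer (zpowers p : Set C) := by
    intro m hm
    obtain ⟨q, hq, hqm⟩ := hfrat m
    refine ⟨q, hq, ?_⟩
    have h1 : q * m * p * (q * m)⁻¹ = p := hpcase _ hqm (by
      rw [map_mul, map_mul, map_mul, (hπQ q).2 hq, one_mul, hcenN m hm p hpN, map_inv, map_mul,
        (hπQ q).2 hq, one_mul, mul_inv_cancel_right])
    refine mem_centralizer_iff.2 fun y hy => ?_
    obtain ⟨j, rfl⟩ := mem_zpowers_iff.1 hy
    exact ((show Commute (q * m) p from mul_inv_eq_iff_eq_mul.1 h1).zpow_right j).eq.symm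
  refine ⟨hCQ, ?_, ?_⟩
  · -- an outer element inverts `p`
    obtain ⟨q, hq, hqc⟩ := hfrat c
    refine ⟨q * c, hqc, fun h1 => hi3 ?_⟩
    have hπc : π c * π p * (π c)⁻¹ = π p := by
      have := congrArg π h1
      simpa [map_mul, (hπQ q).2 hq, mul_assoc] using this
    obtain ⟨d, hd⟩ : ∃ d, d = π c := ⟨_, rfl⟩
    have himg : ∀ (m : C) (hm : m ∈ M) (k : M), f c (e ⟨m, hm⟩) = e k →
        ∃ ν, (∀ w ∈ M, Commute ν (π w)) ∧ π (c * m * c⁻¹) = π k * ν := by
      intro m hm k hk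
      have h2 : k⁻¹ * (⟨c * m * c⁻¹, h.nM.conj_mem m hm c⟩ : M) ∈ e.ker := by
        rw [MonoidHom.mem_ker, map_mul, map_inv, hfe c ⟨m, hm⟩, hk, inv_mul_cancel]
      rw [hek, mem_subgroupOf, coe_mul, coe_inv] at h2
      refine ⟨π ((k : C)⁻¹ * (c * m * c⁻¹)), fun w hw => (hcenN w hw _ h2).symm, ?_⟩
      rw [← map_mul, mul_inv_cancel_left]
    obtain ⟨ν, hν, eA⟩ := himg A hA ⟨A, hA⟩ (by rw [hcσ, hAa, hσa])
    obtain ⟨μ, hμ, eB⟩ := himg B hB (⟨B, hB⟩⁻¹ : M) (by rw [hcσ, map_inv e, hBb, hσb])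
    obtain ⟨k, hk⟩ : ∃ k, k = π p ^ i := ⟨_, rfl⟩
    have hkc : ∀ w ∈ M, Commute k (π w) := fun w hw =>
      hk ▸ (show Commute (π p) (π w) from (hcenN w hw p hpN).symm).pow_left i
    have e1 : d * k * d⁻¹ = k := by
      rw [hk, ← conj_pow, hd, hπc]
    have eA' : d * π A * d⁻¹ = π A * ν := by rw [hd, ← eA]; simp
    have eB' : d * π B * d⁻¹ = (π B)⁻¹ * μ := by
      rw [hd]; simpa using eB
    have hνμ : Commute ν μ := by
      have := hν (c * B * c⁻¹) (h.nM.conj_mem B hB c)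
      rw [eB, show ((⟨B, hB⟩⁻¹ : M) : C) = B⁻¹ from rfl, map_inv] at this
      have h3 : Commute ν ((π B)⁻¹) := (hν B hB).inv_right
      have h4 := h3.inv_right.mul_right this
      rwa [inv_inv, mul_inv_cancel_left] at h4
    have e2 : π A * (π B)⁻¹ = k * ((π B)⁻¹ * π A) := by
      rw [← hk] at hABk
      -- transport `A B = k B A` by conjugation
      have := congrArg (fun w => d * w * d⁻¹) hABk
      have lhs : d * (π A * π B) * d⁻¹ = π A * (π B)⁻¹ * (ν * μ) := by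
        calc d * (π A * π B) * d⁻¹ = (d * π A * d⁻¹) * (d * π B * d⁻¹) := by group
          _ = π A * (ν * (π B)⁻¹) * μ := by rw [eA', eB']; group
          _ = π A * ((π B)⁻¹ * ν) * μ := by rw [(hν B hB).inv_right.eq]
          _ = _ := by group
      have rhs : d * (k * (π B * π A)) * d⁻¹ = k * ((π B)⁻¹ * π A) * (ν * μ) := by
        calc d * (k * (π B * π A)) * d⁻¹ = (d * k * d⁻¹) * ((d * π B * d⁻¹) * (d * π A * d⁻¹)) := by group
          _ = k * ((π B)⁻¹ * (μ * π A) * ν) := by rw [e1, eA', eB']; group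
          _ = k * ((π B)⁻¹ * π A * (μ * ν)) := by rw [(hμ A hA).eq]; group
          _ = _ := by rw [hνμ.eq]; group
      exact mul_right_cancel (lhs.symm.trans (this.trans rhs))
    have e3 : π A * (π B)⁻¹ = k⁻¹ * ((π B)⁻¹ * π A) := by
      rw [← hk] at hABk
      calc π A * (π B)⁻¹ = (π B)⁻¹ * (π B * π A) * (π B)⁻¹ := by group
        _ = (π B)⁻¹ * (k⁻¹ * (π A * π B)) * (π B)⁻¹ := by rw [hABk]; group
        _ = (π B)⁻¹ * k⁻¹ * π A := by group
        _ = k⁻¹ * (π B)⁻¹ * π A := by rw [((hkc B hB).inv_left.inv_right).eq]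
        _ = _ := by group
    have e4 : k * k = 1 := by
      have := mul_right_cancel (e2.symm.trans e3)
      nth_rewrite 2 [this]
      exact mul_inv_cancel k
    rw [hk, ← pow_add] at e4
    have h5 := orderOf_dvd_of_pow_eq_one e4
    rw [orderOf_eq_prime hπp3 (fun e1 => hpQ ((hπQ p).1 e1))] at h5
    omega
  · -- `p` is a product of commutators in its centraliser
    obtain ⟨D, hD⟩ : ∃ D, D = ⁅centralizer (zpowers p : Set C), centralizer (zpowers p : Set C)⁆ := ⟨_, rfl⟩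
    rw [← hD]
    have hle : ⁅M, M⁆ ⊔ Q ≤ D ⊔ Q := by
      refine sup_le (commutator_le.2 fun m hm m' hm' => ?_) le_sup_right
      obtain ⟨q, hq, hqm⟩ := hCPM m hm
      obtain ⟨q', hq', hqm'⟩ := hCPM m' hm'
      have h2 : ⁅q * m, q' * m'⁆ ∈ D := hD ▸ commutator_mem_commutator hqm hqm'
      have h3 : (⁅q * m, q' * m'⁆)⁻¹ * ⁅m, m'⁆ ∈ Q := by
        rw [← hπQ, map_mul, map_inv, map_commutatorElement, map_commutatorElement, map_mul, map_mul,
          (hπQ q).2 hq, (hπQ q').2 hq', one_mul, one_mul, inv_mul_cancel]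
      have := mul_mem (mem_sup_left h2 : ⁅q * m, q' * m'⁆ ∈ D ⊔ Q) (mem_sup_right h3)
      rwa [mul_inv_cancel_left] at this
    have h4 := hle (h.perf hpM)
    rw [← SetLike.mem_coe, mul_normal D Q] at h4
    obtain ⟨d, hd, q, hq, hdq⟩ := h4
    have hdle : D ≤ centralizer (zpowers p : Set C) := by
      rw [hD, commutator_le]
      intro u hu v hv
      exact mul_mem (mul_mem (mul_mem hu hv) (inv_mem hu)) (inv_mem hv)
    have hqc : q * p = p * q := by
      have hq' : q = d⁻¹ * p := by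
        have hdq' : d * q = p := hdq
        rw [← hdq']; group
      have hd' : Commute d p := (mem_centralizer_iff.1 (hdle hd) p (mem_zpowers p)).symm
      rw [hq']
      exact (hd'.inv_left.mul_left (Commute.refl p)).eq
    obtain ⟨j, hj⟩ := mem_zpowers_iff.1 (hCQ q hq hqc)
    have hd' : Commute d q := hj ▸ (show Commute d z from h.zc d).zpow_right j
    have hq2 : q ^ 2 = 1 := by
      rw [← hj, pow_two, ← (Commute.refl z).mul_zpow, hzz, one_zpow]
    have hdq' : d * q = p := hdq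
    have hp2 : p ^ 2 = d ^ 2 := by rw [← hdq', hd'.mul_pow, hq2, mul_one]
    have : p = (d ^ 2) ^ 2 := by rw [← hp2, ← pow_mul, show 2 * 2 = 3 + 1 from rfl, pow_add, hp3, one_mul, pow_one]
    rw [this]
    exact pow_mem (pow_mem hd 2) 2

/-- **The hypotheses on the centraliser give Janko-four type.** -/
theorem isOfJankoFourTypeAt {G : Type u} [Group G] [Finite G] (t : G) (ht : orderOf t = 2)
    (Q N M : Subgroup (centralizer ({t} : Set G))) [Q.Normal] [N.Normal] [M.Normal]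
    (hQN : Q ≤ N) (hNM : N ≤ M) (hM : M.index = 2) (hQ : IsExtraspecial 2 Q) (hcard : Nat.card Q = 2 ^ 13)
    (hN : Nat.card N = 3 * Nat.card Q) (hcent : ⁅M, N⁆ ≤ Q) (hperf : M ≤ ⁅M, M⁆ ⊔ Q)
    (h2c : centralizer (Q : Set (centralizer ({t} : Set G))) ≤ Q)
    (hout : ∀ c : centralizer ({t} : Set G), (∀ m ∈ M, c * m * c⁻¹ * m⁻¹ ∈ N) → c ∈ M)
    (hM22 : Spor.IsoM22 (M ⧸ N.subgroupOf M)) : IsOfJankoFourTypeAt t := by
  obtain ⟨tc, htc⟩ : ∃ tc : centralizer ({t} : Set G), tc = ⟨t, mem_centralizer_singleton_iff.2 rfl⟩ := ⟨_, rfl⟩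
  have htcv : (tc : G) = t := by rw [htc]
  have h : CentHyps tc Q N M :=
    { z2 := by rw [htc, Subgroup.orderOf_mk, ht]
      zc := fun g => Subtype.ext (by
        rw [coe_mul, coe_mul, htcv]
        exact mem_centralizer_singleton_iff.1 g.2)
      nQ := inferInstance, nN := inferInstance, nM := inferInstance
      QN := hQN, NM := hNM, idx := hM, extra := hQ, cardQ := hcard, cardN := hN
      cent := hcent, perf := hperf, selfc := h2c, out := hout, m22 := hM22 }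
  obtain ⟨f, e, hfs, hfk, -, -, -⟩ := h.exists_hom
  obtain ⟨p, hpN, hp, hCQ, ⟨c, hc1, hc2⟩, hder⟩ := h.exists_three
  have hcore : twoCoreOfCentralizer t = Q.map (centralizer ({t} : Set G)).subtype := by
    unfold twoCoreOfCentralizer; rw [h.core_eq]
  set S := (centralizer ({t} : Set G)).subtype with hS
  have hSinj : Function.Injective S := Subtype.coe_injective
  have hmapcent : (centralizer (zpowers p : Set (centralizer ({t} : Set G)))).map S =
      centralizer ({t} : Set G) ⊓ centralizer ((zpowers (p : G)) : Set G) := by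
    ext g
    constructor
    · rintro ⟨u, hu, rfl⟩
      refine ⟨u.2, mem_centralizer_iff.2 fun y hy => ?_⟩
      obtain ⟨j, rfl⟩ := mem_zpowers_iff.1 hy
      have h0 : (p * u : centralizer ({t} : Set G)) = u * p := mem_centralizer_iff.1 hu p (mem_zpowers p)
      exact ((show Commute (u : G) p from (congrArg Subtype.val h0).symm).zpow_right j).eq.symm
    · rintro ⟨hg, hgc⟩
      refine ⟨⟨g, hg⟩, mem_centralizer_iff.2 fun y hy => Subtype.ext ?_, rfl⟩
      obtain ⟨j, rfl⟩ := mem_zpowers_iff.1 hy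
      exact mem_centralizer_iff.1 hgc _ ⟨j, by simp⟩
  refine ⟨zpowers (p : G), ht, ?_, ?_, ?_, ⟨N.map S, ?_, ?_, ?_, ?_, ?_, ?_⟩, ?_, ?_, ?_, ?_⟩
  · rw [hcore]
    obtain ⟨⟨hp2, hfr, hco⟩, hce⟩ := hQ
    exact CfsgLib.LargeExtra.isExtraspecial_of_mulEquiv (Q.equivMapOfInjective S hSinj) ⟨⟨hp2, hfr, hco⟩, hce⟩
  · rw [hcore, card_map_of_injective hSinj, hcard]
  · rw [hcore]
    rintro g ⟨hg, hgc⟩
    exact ⟨⟨g, hg⟩, h2c (mem_centralizer_iff.2 fun q hq => Subtype.ext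
      (mem_centralizer_iff.1 hgc _ ⟨q, hq, rfl⟩)), rfl⟩
  · rw [hcore]; exact map_mono hQN
  · exact map_subtype_le N
  · intro g hg
    refine mem_normalizer_iff.2 fun y => ⟨?_, ?_⟩
    · rintro ⟨n, hn, rfl⟩
      exact ⟨_, (inferInstance : N.Normal).conj_mem n hn ⟨g, hg⟩, rfl⟩
    · rintro ⟨n, hn, hny⟩
      refine ⟨_, (inferInstance : N.Normal).conj_mem n hn (⟨g, hg⟩⁻¹), ?_⟩
      have hny' : (n : G) = g * y * g⁻¹ := hny
      simp [hS, hny', mul_assoc]
  · rw [hcore, card_map_of_injective hSinj, card_map_of_injective hSinj, hN]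
  · have hNe : (N.map S).subgroupOf (centralizer ({t} : Set G)) = N := by
      rw [subgroupOf, ← hS, comap_map_eq_self_of_injective hSinj]
    refine ⟨hNe.symm ▸ (inferInstance : N.Normal), ⟨?_⟩⟩
    haveI : ((N.map S).subgroupOf (centralizer ({t} : Set G))).Normal := hNe.symm ▸ (inferInstance : N.Normal)
    exact (QuotientGroup.quotientMulEquivOfEq (hNe.trans hfk.symm)).trans
      (QuotientGroup.quotientKerEquivOfSurjective f hfs)
  · exact zpowers_le.2 ⟨p, hpN, rfl⟩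
  · rw [Nat.card_zpowers, Subgroup.orderOf_coe, hp]
  · rw [hcore]
    refine le_antisymm ?_ (zpowers_le.2 ⟨⟨tc, h.zQ, htcv⟩, ?_⟩)
    · rintro _ ⟨⟨q, hq, rfl⟩, hqc⟩
      obtain ⟨j, hj⟩ := mem_zpowers_iff.1 (hCQ q hq (Subtype.ext
        (mem_centralizer_iff.1 hqc _ (mem_zpowers (p : G))).symm))
      exact ⟨j, by rw [← hj, map_zpow, hS, Subgroup.subtype_apply, htcv]⟩
    · refine mem_centralizer_iff.2 fun y hy => ?_
      obtain ⟨j, rfl⟩ := mem_zpowers_iff.1 hy
      exact ((show Commute t (p : G) from (mem_centralizer_singleton_iff.1 p.2).symm).zpow_right j).eq.symm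
  · intro heq
    have hn : (c : G) ∈ centralizer ({t} : Set G) ⊓ normalizer ((zpowers (p : G)) : Set G) := by
      refine ⟨c.2, mem_normalizer_iff.2 fun y => ?_⟩
      have hmap : (zpowers (p : G)).map (MulAut.conj (c : G)).toMonoidHom = zpowers (p : G) := by
        refine eq_of_le_of_card_ge ?_ (le_of_eq (card_map_of_injective (MulEquiv.injective _)).symm)
        rw [MonoidHom.map_zpowers, zpowers_le]
        obtain ⟨j, hj⟩ := mem_zpowers_iff.1 hc1
        exact ⟨j, by simpa using congrArg Subtype.val hj⟩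
      constructor
      · intro hy; rw [← hmap]; exact ⟨y, hy, rfl⟩
      · intro hy
        rw [← hmap] at hy
        obtain ⟨w, hw, hwy⟩ := hy
        have : w = y := by simpa using hwy
        exact this ▸ hw
    rw [heq] at hn
    refine hc2 (Subtype.ext ?_)
    simp only [coe_mul, coe_inv]
    exact mul_inv_eq_iff_eq_mul.2 (mem_centralizer_iff.1 hn.2 _ (mem_zpowers (p : G))).symm
  · rw [zpowers_le, ← hmapcent, ← map_commutator]
    exact ⟨p, hder, rfl⟩

end CfsgLib.JankoFour.Recog
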