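import Mathlib
import Cfsg.Agent.Lib.JankoFour.Basic

/-!
# The triple cover of M22 has nonabelian Sylow 3-subgroups
-/

set_option autoImplicit false

namespace CfsgLib.JankoFour.Recog

open Subgroup

universe u

/-- Commuting lifts of independent commuting elements of order three contradict perfectness. -/
theorem no_commuting_lifts {X : Type u} [Group X] [Finite X] {Y : Type*} [Group Y] [Finite Y]
    (η : X →* Y) (hη : Function.Surjective η) (hperf : commutator X = ⊤) (hker : Nat.card η.ker = 3)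
    (hY : Nat.card Y = 443520) {z A B : X} (hz : z ∈ η.ker) (hz1 : z ≠ 1) (hzc : ∀ g, g * z = z * g)
    {a b : Y} (hA : η A = a) (hB : η B = b) (ha : a ^ 3 = 1) (hb : b ^ 3 = 1) (ha1 : a ≠ 1)
    (hab : b ∉ zpowers a) : A * B ≠ B * A := by
  classical
  intro hAB
  haveI : Fact (Nat.Prime 3) := ⟨Nat.prime_three⟩
  haveI : IsMulCommutative (closure ({z, A, B} : Set X)) := Subgroup.isMulCommutative_closure (by
    intro p hp q hq
    simp only [Set.mem_insert_iff, Set.mem_singleton_iff] at hp hq
    rcases hp with rfl | rfl | rfl <;> rcases hq with rfl | rfl | rfl <;>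
      first | rfl | exact hAB | exact hAB.symm | exact (hzc _).symm | exact hzc _)
  obtain ⟨H, hH⟩ : ∃ H : Subgroup X, H = closure ({z, A, B} : Set X) := ⟨_, rfl⟩
  haveI : IsMulCommutative H := hH ▸ inferInstance
  have hzH : z ∈ H := hH ▸ subset_closure (by simp)
  have hAH : A ∈ H := hH ▸ subset_closure (by simp)
  have hBH : B ∈ H := hH ▸ subset_closure (by simp)
  have hk3 : ∀ k ∈ η.ker, k ^ 3 = 1 := fun k hk => by
    have h := pow_card_eq_one' (x := (⟨k, hk⟩ : η.ker))
    rw [hker] at h
    exact congrArg Subtype.val h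
  -- exponent nine
  have h9 : ∀ g ∈ H, g ^ 9 = 1 := by
    intro g hg
    have key : ∀ q : X, η q ^ 3 = 1 → q ^ 9 = 1 := fun q hq => by
      rw [show 9 = 3 * 3 from rfl, pow_mul, hk3 _ (MonoidHom.mem_ker.2 (by rw [map_pow, hq]))]
    rw [hH] at hg
    induction hg using closure_induction with
    | mem q hq =>
      simp only [Set.mem_insert_iff, Set.mem_singleton_iff] at hq
      rcases hq with rfl | rfl | rfl
      · exact key _ (by rw [MonoidHom.mem_ker.1 hz, one_pow])
      · exact key _ (hA ▸ ha)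
      · exact key _ (hB ▸ hb)
    | one => exact one_pow _
    | mul p q hp hq hp9 hq9 =>
      have hc : Commute p q := congrArg Subtype.val
        (IsMulCommutative.is_comm.comm (⟨p, hH ▸ hp⟩ : H) ⟨q, hH ▸ hq⟩)
      rw [hc.mul_pow, hp9, hq9, one_mul]
    | inv p _ hp9 => rw [inv_pow, hp9, inv_one]
  have hHp : IsPGroup 3 H := fun g => ⟨2, Subtype.ext (by simpa using h9 g g.2)⟩
  obtain ⟨e, he⟩ := hHp.exists_card_eq
  have hX : Nat.card X = 27 * 49280 := by
    have h := η.ker.card_mul_index
    rw [hker, index_ker, MonoidHom.range_eq_top.2 hη, card_top, hY] at h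
    omega
  -- the image has nine elements
  have hinj : Function.Injective fun p : zpowers a × zpowers b => (p.1 : Y) * p.2 := by
    rintro ⟨u, v⟩ ⟨u', v'⟩ h
    have h' : (u : Y) * v = u' * v' := h
    have e1 : (u' : Y)⁻¹ * u = v' * (v : Y)⁻¹ := by
      rw [eq_mul_inv_iff_mul_eq, mul_assoc, h', inv_mul_cancel_left]
    have hm : (u' : Y)⁻¹ * u ∈ zpowers a ⊓ zpowers b :=
      ⟨(zpowers a).mul_mem ((zpowers a).inv_mem u'.2) u.2, e1 ▸ (zpowers b).mul_mem v'.2 ((zpowers b).inv_mem v.2)⟩
    have hb1 : b ≠ 1 := fun e => hab (e ▸ one_mem _)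
    have hbot : zpowers a ⊓ zpowers b = ⊥ := by
      have hcb : Nat.card (zpowers b) = 3 := by rw [Nat.card_zpowers, orderOf_eq_prime hb hb1]
      rcases Nat.prime_three.eq_one_or_self_of_dvd _
        (hcb ▸ card_dvd_of_le (inf_le_right : zpowers a ⊓ zpowers b ≤ zpowers b)) with h1 | h3
      · exact eq_bot_of_card_eq _ h1
      · have := eq_of_le_of_card_ge (inf_le_right : zpowers a ⊓ zpowers b ≤ zpowers b) (by omega)
        exact absurd (inf_le_left (a := zpowers a) (this.symm ▸ mem_zpowers b)) hab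
    rw [hbot, mem_bot] at hm
    have hu : u = u' := Subtype.ext (inv_mul_eq_one.1 hm).symm
    subst hu
    exact Prod.ext rfl (Subtype.ext (mul_left_cancel h'))
  have hb1 : b ≠ 1 := fun e => hab (e ▸ one_mem _)
  have h9le : 9 ≤ Nat.card (H.map η) := by
    have hm : ∀ p : zpowers a × zpowers b, (p.1 : Y) * p.2 ∈ H.map η := fun p => mul_mem
      (zpowers_le.2 (mem_map.2 ⟨A, hAH, hA⟩) p.1.2) (zpowers_le.2 (mem_map.2 ⟨B, hBH, hB⟩) p.2.2)
    have := Nat.card_le_card_of_injective (fun p => (⟨_, hm p⟩ : H.map η))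
      (fun p q h => hinj (congrArg Subtype.val h))
    rwa [Nat.card_prod, Nat.card_zpowers, Nat.card_zpowers, orderOf_eq_prime ha ha1, orderOf_eq_prime hb hb1] at this
  have hzle : zpowers z ≤ H ⊓ η.ker := zpowers_le.2 ⟨hzH, hz⟩
  have h27 : 27 ≤ Nat.card H := by
    have h := (η.ker.subgroupOf H).card_mul_index
    have e1 : Nat.card (η.ker.subgroupOf H) = Nat.card (H ⊓ η.ker : Subgroup X) := by
      rw [← inf_subgroupOf_right, inf_comm]
      exact Nat.card_congr (subgroupOfEquivOfLe inf_le_left).toEquiv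
    have e2 : (η.ker.subgroupOf H).index = Nat.card (H.map η) := by
      rw [← MonoidHom.comap_bot, ← relIndex, relIndex_comap, relIndex_bot_left]
    rw [e1, e2] at h
    have e3 : 3 ≤ Nat.card (H ⊓ η.ker : Subgroup X) := by
      have := card_le_of_le hzle
      rwa [Nat.card_zpowers, orderOf_eq_prime (hk3 z hz) hz1] at this
    calc 27 = 3 * 9 := rfl
      _ ≤ _ := Nat.mul_le_mul e3 h9le
      _ = _ := h
  have he3 : e = 3 := by
    have hd : 3 ^ e ∣ 27 * 49280 := hX ▸ he ▸ card_subgroup_dvd_card H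
    have hd' : 3 ^ e ∣ 3 ^ 3 := (Nat.Coprime.dvd_of_dvd_mul_right
      (Nat.Coprime.pow_left _ (by norm_num)) hd)
    have h1 := (Nat.pow_dvd_pow_iff_le_right (by norm_num)).1 hd'
    have h2 : 3 ^ 3 ≤ 3 ^ e := by rw [← he]; exact h27
    have h3 := (Nat.pow_le_pow_iff_right (by norm_num)).1 h2
    omega
  -- the transfer into `H` kills `X` but not `z`
  letI : CommGroup H := { (inferInstance : Group H) with mul_comm := fun p q => IsMulCommutative.is_comm.comm p q }
  have hk : commutator X ≤ ((MonoidHom.transfer (MonoidHom.id H) : X →* H)).ker := Abelianization.commutator_subset_ker _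
  have hz2 := MonoidHom.mem_ker.1 (hk (hperf ▸ mem_top z))
  rw [MonoidHom.transfer_eq_pow _ z (fun k g₀ _ => by
    have hc : Commute g₀ (z ^ k) := (show Commute g₀ z from hzc g₀).pow_right k
    rw [mul_assoc, ← hc.eq, inv_mul_cancel_left])] at hz2
  have hidx : H.index = 49280 := by
    have h := H.card_mul_index
    rw [he, he3, hX] at h
    omega
  have hz3 : z ^ H.index = 1 := congrArg Subtype.val hz2
  rw [hidx] at hz3
  exact hz1 (by
    have h1 := orderOf_dvd_of_pow_eq_one hz3
    rw [orderOf_eq_prime (hk3 z hz) hz1] at h1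
    norm_num at h1)

end CfsgLib.JankoFour.Recog
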