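import Cfsg.Agent.Lib.JankoFour.PairAut

/-!
# An outer automorphism of M22 of determinant −1 on an elementary subgroup of order nine
-/

set_option autoImplicit false
set_option maxRecDepth 100000

namespace CfsgLib.JankoFour.Recog

open Cfsg CfsgLib.Golay CfsgLib.M24Cert CfsgLib.MathieuOut

/-- The first element of order three. -/
def threeA : List ℕ :=
  [0, 1, 2, 3, 4, 14, 15, 10, 21, 8, 12, 19, 7, 22, 17, 18, 13, 5, 6, 20, 11, 9, 16, 23]

/-- The second element of order three. -/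
def threeB : List ℕ :=
  [0, 1, 3, 4, 2, 11, 15, 12, 8, 9, 7, 13, 10, 5, 19, 18, 17, 20, 6, 22, 16, 21, 14, 23]

/-- An element of the pair stabiliser fixing the first and inverting the second. -/
def outerH : List ℕ :=
  [23, 1, 2, 4, 3, 16, 12, 18, 9, 21, 6, 20, 15, 17, 13, 7, 14, 22, 10, 11, 19, 8, 5, 0]

theorem exists_det_neg_one : ∃ (σ : MulAut ↥Spor.M22) (a b : ↥Spor.M22), a ^ 3 = 1 ∧ b ^ 3 = 1 ∧
    a ≠ 1 ∧ b * a = a * b ∧ b ∉ Subgroup.zpowers a ∧ σ a = a ∧ σ b = b⁻¹ := by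
  obtain ⟨hav, ha⟩ := m22_cut.of_test (L := threeA) (by decide +kernel)
  obtain ⟨hbv, hb⟩ := m22_cut.of_test (L := threeB) (by decide +kernel)
  obtain ⟨hhv, hh⟩ := mem_M24_of_m24B (L := outerH) (by decide +kernel)
  have hpts : pL outerH none = some 0 ∧ pL outerH (some 0) = none := by decide +kernel
  have f1 : pL threeA ^ 3 = 1 ∧ pL threeB ^ 3 = 1 ∧ pL threeA ≠ 1 ∧
      pL threeB * pL threeA = pL threeA * pL threeB ∧
      pL threeB ≠ 1 ∧ pL threeB ≠ pL threeA ∧ pL threeB ≠ pL threeA ^ 2 ∧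
      pL outerH * pL threeA = pL threeA * pL outerH ∧
      pL outerH * pL threeB = pL threeB ^ 2 * pL outerH := by decide +kernel
  obtain ⟨a3, b3, a1, hab, hb1, hba, hba2, hca, hcb⟩ := f1
  have hP : pL outerH ∈ PairStab := mem_pairStab.2 ⟨hh, Or.inr hpts⟩
  refine ⟨conjHom ⟨pL outerH, hP⟩, ⟨pL threeA, ha⟩, ⟨pL threeB, hb⟩, Subtype.ext a3, Subtype.ext b3,
    fun e => a1 (congrArg Subtype.val e), Subtype.ext hab, ?_, ?_, ?_⟩
  · intro hm
    obtain ⟨i, hi⟩ := Subgroup.mem_zpowers_iff.1 hm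
    have hi' : pL threeA ^ i = pL threeB := by simpa using congrArg Subtype.val hi
    rw [← Int.emod_add_mul_ediv i 3, zpow_add, zpow_mul, zpow_ofNat, a3, one_zpow, mul_one] at hi'
    rcases (show i % 3 = 0 ∨ i % 3 = 1 ∨ i % 3 = 2 by omega) with h | h | h <;> rw [h] at hi'
    · exact hb1 (by rw [← hi', zpow_zero])
    · exact hba (by rw [← hi', zpow_one])
    · exact hba2 (by rw [← hi']; rfl)
  · refine Subtype.ext ?_
    show pL outerH * pL threeA * (pL outerH)⁻¹ = pL threeA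
    rw [hca, mul_inv_cancel_right]
  · refine Subtype.ext ?_
    show pL outerH * pL threeB * (pL outerH)⁻¹ = (pL threeB)⁻¹
    rw [hcb, mul_inv_cancel_right]
    exact eq_inv_of_mul_eq_one_left (by rw [← pow_succ]; exact b3)

end CfsgLib.JankoFour.Recog
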