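import Cfsg.Agent.Lib.JankoFour.Recog.TwelveDim
import Cfsg.Agent.Lib.JankoFour.Recog.Cover
import Cfsg.Agent.Lib.JankoFour.Recog.OuterThree
import Cfsg.Agent.Lib.Solvable.MinimalNormal
import Cfsg.Agent.Lib.Cores.Basic

/-!
# The hypotheses on the centraliser give Janko-four type
-/

set_option autoImplicit false
set_option linter.unusedSectionVars false

namespace CfsgLib.JankoFour.Recog

open Subgroup Cfsg
open scoped commutatorElement

universe u

/-- The hypotheses inside the centraliser `C` of the involution `z`. -/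
structure CentHyps {C : Type u} [Group C] (z : C) (Q N M : Subgroup C) : Prop where
  z2 : orderOf z = 2
  zc : ∀ g : C, g * z = z * g
  nQ : Q.Normal
  nN : N.Normal
  nM : M.Normal
  QN : Q ≤ N
  NM : N ≤ M
  idx : M.index = 2
  extra : IsExtraspecial 2 Q
  cardQ : Nat.card Q = 2 ^ 13
  cardN : Nat.card N = 3 * Nat.card Q
  cent : ⁅M, N⁆ ≤ Q
  perf : M ≤ ⁅M, M⁆ ⊔ Q
  selfc : centralizer (Q : Set C) ≤ Q
  out : ∀ c : C, (∀ m ∈ M, c * m * c⁻¹ * m⁻¹ ∈ N) → c ∈ M
  m22 : Spor.IsoM22 (M ⧸ N.subgroupOf M)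

variable {C : Type u} [Group C] [Finite C] {z : C} {Q N M : Subgroup C}

theorem CentHyps.zQ (h : CentHyps z Q N M) : z ∈ Q :=
  h.selfc (mem_centralizer_iff.2 fun q _ => h.zc q)

theorem CentHyps.z_ne (h : CentHyps z Q N M) : z ≠ 1 := fun e => by
  have := h.z2; rw [e, orderOf_one] at this; omega

theorem CentHyps.center_Q (h : CentHyps z Q N M) {q : C} (hq : q ∈ Q)
    (hc : ∀ r ∈ Q, r * q = q * r) : q = 1 ∨ q = z := by
  have hcard : Nat.card (center ↥Q) = 2 := h.extra.2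
  have hzm : (⟨z, h.zQ⟩ : Q) ∈ center ↥Q := mem_center_iff.2 fun r => Subtype.ext (h.zc r)
  have hz : zpowers (⟨z, h.zQ⟩ : Q) = center ↥Q := eq_of_le_of_card_ge (zpowers_le.2 hzm) (by
    rw [hcard, Nat.card_zpowers, Subgroup.orderOf_mk, h.z2])
  have hm : (⟨q, hq⟩ : Q) ∈ center ↥Q := mem_center_iff.2 fun r => Subtype.ext (hc r r.2)
  rw [← hz] at hm
  obtain ⟨i, hi⟩ := mem_zpowers_iff.1 hm
  have hi' : z ^ i = q := by simpa using congrArg Subtype.val hi
  have hzz : z ^ (2 : ℤ) = 1 := by rw [zpow_ofNat, ← h.z2, pow_orderOf_eq_one]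
  rcases Int.even_or_odd i with ⟨l, rfl⟩ | ⟨l, rfl⟩
  · left; rw [← hi', ← two_mul, zpow_mul, hzz, one_zpow]
  · right; rw [← hi', zpow_add, zpow_mul, hzz, one_zpow, one_mul, zpow_one]

theorem CentHyps.comm_mem (h : CentHyps z Q N M) {a b : C} (ha : a ∈ Q) (hb : b ∈ Q) :
    a * b * a⁻¹ * b⁻¹ ∈ zpowers z := by
  have hm : ⁅(⟨a, ha⟩ : Q), (⟨b, hb⟩ : Q)⁆ ∈ center ↥Q :=
    h.extra.1.2.2 ▸ commutator_mem_commutator (mem_top _) (mem_top _)
  rw [mem_center_iff] at hm
  rcases h.center_Q (q := a * b * a⁻¹ * b⁻¹)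
    (mul_mem (mul_mem (mul_mem ha hb) (inv_mem ha)) (inv_mem hb))
    (fun r hr => by simpa [commutatorElement_def] using congrArg Subtype.val (hm ⟨r, hr⟩)) with e | e <;> rw [e]
  exacts [one_mem _, mem_zpowers _]

theorem CentHyps.sq_mem (h : CentHyps z Q N M) {a : C} (ha : a ∈ Q) : a * a ∈ zpowers z := by
  have hzz : z * z = 1 := by rw [← pow_two, ← h.z2, pow_orderOf_eq_one]
  have hcen : ∀ r ∈ Q, r * (a * a) = a * a * r := fun r hr => by
    obtain ⟨i, hi⟩ := mem_zpowers_iff.1 (h.comm_mem ha hr)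
    have hc : Commute a (z ^ i) := (show Commute a z from h.zc a).zpow_right i
    have e1 : a * r = z ^ i * r * a := by rw [hi]; group
    have h2 : z ^ i * z ^ i = 1 := by
      rw [← (Commute.refl z).mul_zpow, hzz, one_zpow]
    calc r * (a * a) = 1 * r * a * a := by group
      _ = z ^ i * z ^ i * r * a * a := by rw [h2]
      _ = z ^ i * (z ^ i * r * a) * a := by group
      _ = z ^ i * (a * r) * a := by rw [e1]
      _ = z ^ i * a * (r * a) := by group
      _ = a * z ^ i * (r * a) := by rw [hc.eq]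
      _ = a * (z ^ i * r * a) := by group
      _ = a * a * r := by rw [← e1]; group
  rcases h.center_Q (mul_mem ha ha) hcen with e | e
  · rw [e]; exact one_mem _
  · rw [e]; exact mem_zpowers _

/-- The quotient by `N` is the automorphism group of M22. -/
theorem CentHyps.exists_hom (h : CentHyps z Q N M) : ∃ (f : C →* MulAut ↥Spor.M22)
    (e : M →* ↥Spor.M22), Function.Surjective f ∧ f.ker = N ∧ Function.Surjective e ∧
      e.ker = N.subgroupOf M ∧ ∀ (c : C) (m : M),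
        e ⟨c * m * c⁻¹, h.nM.conj_mem m m.2 c⟩ = f c (e m) := by
  haveI := h.nM
  haveI := h.nN
  obtain ⟨ι⟩ := h.m22
  let e : M →* ↥Spor.M22 := ι.toMonoidHom.comp (QuotientGroup.mk' _)
  have he : e.ker = N.subgroupOf M := by
    rw [MonoidHom.ker_comp_of_injective _ _ ι.injective]; exact QuotientGroup.ker_mk' _
  have hes : Function.Surjective e := ι.surjective.comp (QuotientGroup.mk'_surjective _)
  have hmap : ∀ c : C, (N.subgroupOf M).map (MulAut.conjNormal c : MulAut M).toMonoidHom = N.subgroupOf M := by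
    intro c
    ext m
    constructor
    · rintro ⟨n, hn, rfl⟩
      exact mem_subgroupOf.2 (by simpa [MulAut.conjNormal_apply] using h.nN.conj_mem _ (mem_subgroupOf.1 hn) c)
    · intro hm
      refine ⟨⟨c⁻¹ * (m : C) * c⁻¹⁻¹, h.nM.conj_mem m m.2 c⁻¹⟩,
        mem_subgroupOf.2 (h.nN.conj_mem _ (mem_subgroupOf.1 hm) c⁻¹), Subtype.ext ?_⟩
      simp [MulAut.conjNormal_apply, mul_assoc]
  let g : C →* MulAut (M ⧸ N.subgroupOf M) :=
    { toFun := fun c => QuotientGroup.congr _ _ (MulAut.conjNormal c) (hmap c)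
      map_one' := MulEquiv.ext fun q => by
        obtain ⟨m, rfl⟩ := QuotientGroup.mk_surjective q
        simp
      map_mul' := fun c d => MulEquiv.ext fun q => by
        obtain ⟨m, rfl⟩ := QuotientGroup.mk_surjective q
        simp
        rfl }
  let f : C →* MulAut ↥Spor.M22 := (MulAut.congr ι).toMonoidHom.comp g
  have hf : ∀ (c : C) (m : M), e ⟨c * m * c⁻¹, h.nM.conj_mem m m.2 c⟩ = f c (e m) := by
    intro c m
    show ι (QuotientGroup.mk _) = ι ((g c) (ι.symm (ι (QuotientGroup.mk m))))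
    rw [MulEquiv.symm_apply_apply]
    exact congrArg ι (congrArg QuotientGroup.mk (Subtype.ext (MulAut.conjNormal_apply c m).symm))
  have hker : f.ker = N := by
    refine le_antisymm (fun c hc => ?_) (fun n hn => MonoidHom.mem_ker.2 (MulEquiv.ext fun q => ?_))
    · have h1 : ∀ m : M, e ⟨c * m * c⁻¹, h.nM.conj_mem m m.2 c⟩ = e m := fun m => by
        rw [hf, MonoidHom.mem_ker.1 hc]; rfl
      have hcM : c ∈ M := h.out c fun m hm => by
        have := MonoidHom.mem_ker.2 (show e (⟨c * m * c⁻¹, h.nM.conj_mem m hm c⟩ * (⟨m, hm⟩ : M)⁻¹) = 1 by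
          rw [map_mul, map_inv, h1 ⟨m, hm⟩, mul_inv_cancel])
        rw [he] at this
        exact mem_subgroupOf.1 this
      have hcen : e ⟨c, hcM⟩ ∈ center ↥Spor.M22 := mem_center_iff.2 fun q => by
        obtain ⟨m, rfl⟩ := hes q
        have h2 := h1 m
        rw [show (⟨c * m * c⁻¹, h.nM.conj_mem m m.2 c⟩ : M) = ⟨c, hcM⟩ * m * (⟨c, hcM⟩ : M)⁻¹ from rfl,
          map_mul, map_mul, map_inv, mul_inv_eq_iff_eq_mul] at h2
        exact h2.symm
      rw [center_M22, mem_bot] at hcen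
      have : (⟨c, hcM⟩ : M) ∈ e.ker := hcen
      rw [he] at this
      exact mem_subgroupOf.1 this
    · obtain ⟨m, rfl⟩ := hes q
      rw [← hf, MulAut.one_apply]
      refine (MonoidHom.eq_iff e).2 ?_
      rw [he, mem_subgroupOf, coe_mul, coe_inv]
      have h1 : (m : C)⁻¹ * n * (m : C) * n⁻¹ ∈ N :=
        mul_mem (by simpa using h.nN.conj_mem n hn (m : C)⁻¹) (inv_mem hn)
      simpa [mul_assoc] using h1
  refine ⟨f, e, ?_, hker, hes, he, hf⟩
  rw [← MonoidHom.range_eq_top]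
  refine eq_top_of_card_eq _ ?_
  rw [← index_ker, hker, ← relIndex_mul_index h.NM, h.idx, card_aut_M22, relIndex,
    Subgroup.index_eq_card, Nat.card_congr ι.toEquiv, CfsgLib.Golay.card_sporM22]

theorem CentHyps.core_eq (h : CentHyps z Q N M) : pCore 2 C = Q := by
  haveI : Fact (Nat.Prime 2) := ⟨Nat.prime_two⟩
  haveI := h.nQ
  haveI := h.nN
  refine le_antisymm ?_ (CfsgLib.Cores.le_pCore (N := Q) h.extra.1.1)
  obtain ⟨f, e, hfs, hfk, -, -, -⟩ := h.exists_hom
  have hR : IsPGroup 2 (pCore 2 C) := CfsgLib.Cores.isPGroup_pCore 2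
  haveI hRn : (pCore 2 C).Normal := sSup_normal _ fun _ h => h.1
  set K := (pCore 2 C).map f with hKdef
  haveI hKn : K.Normal := hRn.map f hfs
  have hK : IsPGroup 2 K := hR.map f
  have hKI : ∀ m : ↥Spor.M22, MulAut.conj m ∈ K → m = 1 := by
    haveI := CfsgLib.Golay.sporM22_simple
    intro m hm
    rcases (inferInstance : (K.comap (MulAut.conj : ↥Spor.M22 →* MulAut ↥Spor.M22)).Normal).eq_bot_or_eq_top
      with hb | ht
    · exact mem_bot.1 (hb ▸ (mem_comap.2 hm) : m ∈ (⊥ : Subgroup ↥Spor.M22))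
    · exfalso
      have hp := hK.comap_of_injective _ conj_injective_M22
      rw [ht] at hp
      obtain ⟨k, hk⟩ := hp.exists_card_eq
      rw [card_top, CfsgLib.Golay.card_sporM22] at hk
      have : 3 ∣ 2 ^ k := hk ▸ (by norm_num)
      exact absurd (Nat.prime_three.dvd_of_dvd_pow this) (by norm_num)
  have hKbot : ∀ σ ∈ K, σ = 1 := fun σ hσ => MulEquiv.ext fun m => by
    have h1 : MulAut.conj (m * (σ m)⁻¹) = 1 ∨ m * (σ m)⁻¹ = 1 := by
      right
      refine hKI _ ?_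
      have e1 : MulAut.conj (m * (σ m)⁻¹) = MulAut.conj m * σ * (MulAut.conj m)⁻¹ * σ⁻¹ :=
        MulEquiv.ext fun q => by simp [MulAut.conj_apply, mul_assoc]
      rw [e1]
      exact mul_mem (hKn.conj_mem σ hσ _) (inv_mem hσ)
    rcases h1 with h1 | h1
    · exact (mul_inv_eq_one.1 (conj_injective_M22 (h1.trans (map_one _).symm))).symm
    · exact (mul_inv_eq_one.1 h1).symm
  intro r hr
  have hrN : r ∈ N := hfk ▸ MonoidHom.mem_ker.2 (hKbot _ ⟨r, hr, rfl⟩)
  obtain ⟨k, hk⟩ := hR ⟨r, hr⟩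
  have hr2 : r ^ 2 ^ k = 1 := congrArg Subtype.val hk
  have hidx : (Q.subgroupOf N).index = 3 := by
    have h1 := (Q.subgroupOf N).card_mul_index
    rw [Nat.card_congr (subgroupOfEquivOfLe h.QN).toEquiv, h.cardN, h.cardQ] at h1
    omega
  have h3 : (⟨r, hrN⟩ : N) ^ 3 ∈ Q.subgroupOf N := hidx ▸ pow_index_mem _ _
  have h3' : r ^ 3 ∈ Q := mem_subgroupOf.1 h3
  have hcop : Nat.Coprime (orderOf r) 3 :=
    ((Nat.coprime_primes Nat.prime_two Nat.prime_three).2 (by norm_num)).pow_left k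
      |>.coprime_dvd_left (orderOf_dvd_of_pow_eq_one hr2)
  obtain ⟨m, hm⟩ := exists_pow_eq_self_of_coprime hcop.symm
  rw [← hm]
  exact pow_mem h3' m

end CfsgLib.JankoFour.Recog
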