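import Mathlib

/-!
# A fixed-point-free centre of a nonabelian group of order 27 on a 2-group of exponent two
-/

set_option autoImplicit false

namespace CfsgLib.JankoFour.Recog

universe u

variable {W : Type u} [CommGroup W]

/-- The norm of an automorphism. -/
def trace3 (γ : MulAut W) : W →* W where
  toFun w := w * γ w * γ (γ w)
  map_one' := by simp
  map_mul' a b := by simp [mul_comm, mul_left_comm, mul_assoc]

/-- The fixed subgroup. -/
def fixed (γ : MulAut W) : Subgroup W where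
  carrier := {w | γ w = w}
  one_mem' := map_one γ
  mul_mem' {a b} ha hb := by
    show γ (a * b) = a * b
    rw [map_mul, ha, hb]
  inv_mem' {a} ha := by
    show γ a⁻¹ = a⁻¹
    rw [map_inv, ha]

variable {γ δ π : MulAut W}

theorem trace3_mem (h3 : ∀ w, γ (γ (γ w)) = w) (w : W) : trace3 γ w ∈ fixed γ := by
  show γ (w * γ w * γ (γ w)) = w * γ w * γ (γ w)
  rw [map_mul, map_mul, h3, mul_comm (γ w * γ (γ w)) w, mul_assoc]

theorem trace3_fixed (hsq : ∀ w : W, w * w = 1) {w : W} (hw : w ∈ fixed γ) : trace3 γ w = w := by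
  have e : γ w = w := hw
  show w * γ w * γ (γ w) = w
  rw [e, e, hsq, one_mul]

theorem trace3_pi (hsq : ∀ w : W, w * w = 1) (hfix : ∀ w, π w = w → w = 1) (hp : ∀ w, π (π (π w)) = w)
    (w : W) : w * π w * π (π w) = 1 := by
  refine hfix _ ?_
  rw [map_mul, map_mul, hp, mul_comm (π w * π (π w)) w, mul_assoc]

variable [Finite W]

/-- The three fixed subgroups decompose the group. -/
theorem card_eq_cube (hsq : ∀ w : W, w * w = 1) {α β : MulAut W} (hfix : ∀ w, π w = w → w = 1)
    (hp : ∀ w, π (π (π w)) = w) (hα : ∀ w, α (α (α w)) = w) (hαp : ∀ w, α (π w) = π (α w))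
    (hβp : ∀ w, β (π w) = π (β w)) (hc : ∀ w, β (α w) = π (α (β w))) :
    Nat.card W = Nat.card (fixed α) ^ 3 := by
  obtain ⟨a1, ha1⟩ : ∃ a : MulAut W, a = π * α := ⟨_, rfl⟩
  obtain ⟨a2, ha2⟩ : ∃ a : MulAut W, a = π * (π * α) := ⟨_, rfl⟩
  have e1 : ∀ w, a1 w = π (α w) := fun w => by rw [ha1]; rfl
  have e2 : ∀ w, a2 w = π (π (α w)) := fun w => by rw [ha2]; rfl
  have h31 : ∀ w, a1 (a1 (a1 w)) = w := fun w => by simp only [e1, hαp, hα, hp]
  have h32 : ∀ w, a2 (a2 (a2 w)) = w := fun w => by simp only [e2, hαp, hα, hp]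
  -- conjugation by `β` permutes the three subgroups
  have hinj : ∀ {g g' : MulAut W}, (∀ w, β (g w) = g' (β w)) → Nat.card (fixed g) ≤ Nat.card (fixed g') := by
    intro g g' h
    refine Nat.card_le_card_of_injective (fun w : fixed g => (⟨β w, ?_⟩ : fixed g')) fun a b e => ?_
    · show g' (β w) = β w
      rw [← h, show g (w : W) = w from w.2]
    · exact Subtype.ext (β.injective (congrArg Subtype.val e))
  have l01 : Nat.card (fixed α) ≤ Nat.card (fixed a1) := hinj fun w => by rw [e1, hc]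
  have l12 : Nat.card (fixed a1) ≤ Nat.card (fixed a2) := hinj fun w => by rw [e1, e2, hβp, hc]
  have l20 : Nat.card (fixed a2) ≤ Nat.card (fixed α) := hinj fun w => by rw [e2, hβp, hβp, hc, hp]
  -- traces
  have hnine : ∀ w, trace3 α w * trace3 a1 w * trace3 a2 w = w := by
    intro w
    show (w * α w * α (α w)) * (w * a1 w * a1 (a1 w)) * (w * a2 w * a2 (a2 w)) = w
    simp only [e1, e2, hαp, hp]
    have k1 := trace3_pi hsq hfix hp (α w)
    have k2 := trace3_pi hsq hfix hp (α (α w))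
    calc (w * α w * α (α w)) * (w * π (α w) * π (π (α (α w)))) * (w * π (π (α w)) * π (α (α w)))
        = (w * w) * w * (α w * π (α w) * π (π (α w))) * (α (α w) * π (α (α w)) * π (π (α (α w)))) := by
          simp only [mul_assoc, mul_comm, mul_left_comm]
      _ = w := by rw [hsq, k1, k2, one_mul, mul_one, mul_one]
  let Φ : fixed α × fixed a1 × fixed a2 → W := fun p => (p.1 : W) * p.2.1 * p.2.2
  have hkill : ∀ {g g' : MulAut W} (j : MulAut W), (∀ w, g' w = w → g w = j w) →
      (∀ w, j (g w) = g (j w)) → (∀ w, j w * (j (j w)) * w = 1) → ∀ w : fixed g', trace3 g (w : W) = 1 := by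
    intro g g' j h1 h2 h3 w
    show (w : W) * g w * g (g w) = 1
    rw [h1 _ w.2, ← h2, h1 _ w.2, mul_assoc, mul_comm]
    exact h3 _
  have hpi' : ∀ w, π w * π (π w) * w = 1 := fun w => by rw [mul_comm, ← mul_assoc]; exact trace3_pi hsq hfix hp w
  have hpi2 : ∀ w, (π * π) w * (π * π) ((π * π) w) * w = 1 := fun w => by
    show π (π w) * π (π (π (π w))) * w = 1
    rw [hp, mul_comm (π (π w))]; exact hpi' w
  have k10 : ∀ w : fixed a1, trace3 α (w : W) = 1 := hkill (π * π)
    (fun w hw => by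
      rw [e1] at hw
      show α w = π (π w)
      conv_rhs => rw [← hw, hp])
    (fun w => by show π (π (α w)) = α (π (π w)); rw [hαp, hαp]) hpi2
  have k20 : ∀ w : fixed a2, trace3 α (w : W) = 1 := hkill π
    (fun w hw => by
      rw [e2] at hw
      conv_rhs => rw [← hw, hp])
    (fun w => (hαp w).symm) hpi'
  have k01 : ∀ w : fixed α, trace3 a1 (w : W) = 1 := hkill π
    (fun w hw => by rw [e1, hw]) (fun w => by rw [e1, e1, hαp]) hpi'
  have k21 : ∀ w : fixed a2, trace3 a1 (w : W) = 1 := hkill (π * π)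
    (fun w hw => by
      rw [e2] at hw
      rw [e1]
      show π (α w) = π (π w)
      conv_rhs => rw [← hw, hp])
    (fun w => by show π (π (a1 w)) = a1 (π (π w)); rw [e1, e1, hαp, hαp]) hpi2
  have hbij : Function.Bijective Φ := by
    constructor
    · rintro ⟨a, b, c⟩ ⟨a', b', c'⟩ h
      have h' : (a : W) * b * c = a' * b' * c' := h
      have ea : a = a' := Subtype.ext (by
        have := congrArg (trace3 α) h'
        simpa [map_mul, trace3_fixed hsq a.2, trace3_fixed hsq a'.2, k10, k20] using this)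
      have eb : b = b' := Subtype.ext (by
        have := congrArg (trace3 a1) h'
        simpa [map_mul, trace3_fixed hsq b.2, trace3_fixed hsq b'.2, k01, k21] using this)
      subst ea; subst eb
      exact Prod.ext rfl (Prod.ext rfl (Subtype.ext (mul_left_cancel h')))
    · exact fun w => ⟨(⟨_, trace3_mem hα w⟩, ⟨_, trace3_mem h31 w⟩, ⟨_, trace3_mem h32 w⟩), hnine w⟩
  rw [← Nat.card_congr (Equiv.ofBijective Φ hbij), Nat.card_prod, Nat.card_prod,
    show Nat.card (fixed a1) = Nat.card (fixed α) by omega, show Nat.card (fixed a2) = Nat.card (fixed α) by omega]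
  ring

/-- The dimension is a multiple of three. -/
theorem three_dvd_dim (hsq : ∀ w : W, w * w = 1) {α β : MulAut W} (hfix : ∀ w, π w = w → w = 1)
    (hp : π ^ 3 = 1) (hα : α ^ 3 ∈ Subgroup.zpowers π) (hβ : β ^ 3 ∈ Subgroup.zpowers π)
    (hαp : Commute α π) (hβp : Commute β π) (hc : β * α = π * α * β) {d : ℕ} (hd : Nat.card W = 2 ^ d) :
    3 ∣ d := by
  have main : ∀ (q a b : MulAut W), (∀ w, q w = w → w = 1) → q ^ 3 = 1 → a ^ 3 = 1 → Commute a q →
      Commute b q → b * a = q * a * b → 3 ∣ d := by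
    intro q a b hq hq3 ha haq hbq hab
    have app : ∀ {f g : MulAut W}, f = g → ∀ w, f w = g w := fun e w => by rw [e]
    have h := card_eq_cube (π := q) hsq (α := a) (β := b) hq
      (fun w => app (show q * (q * q) = 1 by rw [← hq3, pow_succ', pow_two]) w)
      (fun w => app (show a * (a * a) = 1 by rw [← ha, pow_succ', pow_two]) w)
      (fun w => app haq.eq w) (fun w => app hbq.eq w)
      (fun w => app (show b * a = q * (a * b) by rw [hab, mul_assoc]) w)
    rw [hd] at h
    obtain ⟨k, -, hk⟩ := (Nat.dvd_prime_pow Nat.prime_two).1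
      (show Nat.card (fixed a) ∣ 2 ^ d from h ▸ dvd_pow_self _ (by norm_num))
    rw [hk, ← pow_mul] at h
    exact ⟨k, by rw [Nat.pow_right_injective le_rfl h, mul_comm]⟩
  by_cases h1 : α ^ 3 = 1
  · exact main π α β hfix hp h1 hαp hβp hc
  -- replace `α` by `β * α ^ m`, which has order dividing three
  obtain ⟨i, hi⟩ := Subgroup.mem_zpowers_iff.1 hα
  obtain ⟨j, hj⟩ := Subgroup.mem_zpowers_iff.1 hβ
  have hcube : ∀ m : ℕ, (β * α ^ m) ^ 3 = β ^ 3 * α ^ (3 * m) := by
    have hsemi : ∀ m : ℕ, α ^ m * β = (π ^ m)⁻¹ * (β * α ^ m) := by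
      intro m
      induction m with
      | zero => simp
      | succ m ih =>
        have e : α * β = π⁻¹ * (β * α) := by rw [hc]; group
        calc α ^ (m + 1) * β = α * (α ^ m * β) := by rw [pow_succ', mul_assoc]
          _ = α * (π ^ m)⁻¹ * (β * α ^ m) := by rw [ih, mul_assoc]
          _ = (π ^ m)⁻¹ * (α * β) * α ^ m := by rw [(hαp.pow_right m).inv_right.eq]; group
          _ = (π ^ (m + 1))⁻¹ * (β * α ^ (m + 1)) := by rw [e, pow_succ' α, pow_succ' π]; group
    intro m
    obtain ⟨q, hq⟩ : ∃ q, q = (π ^ m)⁻¹ := ⟨_, rfl⟩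
    have hqb : Commute q β := hq ▸ ((hβp.pow_right m).inv_right).symm
    have hqa : Commute q (α ^ m) := hq ▸ ((hαp.pow_left m).pow_right m).inv_right.symm
    have hq3 : q * q * q = 1 := by
      rw [hq, ← mul_inv_rev, ← mul_inv_rev, ← pow_two, ← pow_succ', ← pow_mul, mul_comm, pow_mul, hp,
        one_pow, inv_one]
    have hs : ∀ r, α ^ m * (β * r) = q * (β * (α ^ m * r)) := fun r => by
      rw [← mul_assoc, hsemi, ← hq]; group
    have hb' : ∀ r, β * (q * r) = q * (β * r) := fun r => by rw [← mul_assoc, ← hqb.eq, mul_assoc]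
    have ha' : ∀ r, α ^ m * (q * r) = q * (α ^ m * r) := fun r => by rw [← mul_assoc, ← hqa.eq, mul_assoc]
    calc (β * α ^ m) ^ 3 = β * (α ^ m * (β * (α ^ m * (β * α ^ m)))) := by
          rw [pow_succ', pow_two]; simp only [mul_assoc]
      _ = q * q * q * (β * β * β * (α ^ m * α ^ m * α ^ m)) := by
          simp only [hs, hb', ha', mul_assoc]
      _ = β ^ 3 * α ^ (3 * m) := by
          rw [hq3, one_mul, mul_comm 3 m, pow_mul]; simp only [pow_succ, pow_zero, one_mul, mul_assoc]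
  have hi0 : ¬ (3 : ℤ) ∣ i := fun ⟨k, hk⟩ => h1 (by
    rw [← hi, hk, zpow_mul, zpow_ofNat, hp, one_zpow])
  obtain ⟨m, hm⟩ : ∃ m : ℕ, (3 : ℤ) ∣ j + i * m := by
    have h3 : i % 3 = 1 ∨ i % 3 = 2 := by omega
    rcases h3 with h3 | h3
    · refine ⟨(-j % 3).toNat, ?_⟩
      rw [Int.toNat_of_nonneg (Int.emod_nonneg _ (by norm_num)), Int.dvd_iff_emod_eq_zero, Int.add_emod,
        Int.mul_emod, h3]
      omega
    · refine ⟨(j % 3).toNat, ?_⟩
      rw [Int.toNat_of_nonneg (Int.emod_nonneg _ (by norm_num)), Int.dvd_iff_emod_eq_zero, Int.add_emod,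
        Int.mul_emod, h3]
      omega
  refine main π⁻¹ (β * α ^ m) α (fun w hw => hfix w ?_) (by rw [inv_pow, hp, inv_one]) ?_
    ((hβp.mul_left (hαp.pow_left m)).inv_right) hαp.inv_right ?_
  · conv_lhs => rw [← hw]
    rw [← MulAut.mul_apply, mul_inv_cancel, MulAut.one_apply]
  · obtain ⟨k, hk⟩ := hm
    rw [hcube m, pow_mul, ← hj, ← hi, ← zpow_natCast, ← zpow_mul, ← zpow_add, hk, zpow_mul, zpow_ofNat,
      hp, one_zpow]
  · have e : α * β = π⁻¹ * (β * α) := by rw [hc]; group
    rw [← mul_assoc α β, e]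
    calc π⁻¹ * (β * α) * α ^ m = π⁻¹ * (β * (α * α ^ m)) := by simp only [mul_assoc]
      _ = π⁻¹ * (β * (α ^ m * α)) := by rw [← pow_succ, pow_succ']
      _ = π⁻¹ * (β * α ^ m) * α := by simp only [mul_assoc]

/-- A nontrivial automorphism of order eleven needs at least ten dimensions. -/
theorem ten_le_dim (hsq : ∀ w : W, w * w = 1) {x : MulAut W} (hx : x ^ 11 = 1) (hx1 : x ≠ 1) {d : ℕ}
    (hd : Nat.card W = 2 ^ d) (hd12 : d ≤ 12) : 10 ≤ d := by
  haveI : Fact (Nat.Prime 11) := ⟨by norm_num⟩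
  have hp : IsPGroup 11 (Subgroup.zpowers x) := IsPGroup.of_card (n := 1)
    (by rw [Nat.card_zpowers, orderOf_eq_prime hx hx1, pow_one])
  have hmod := hp.card_modEq_card_fixedPoints W
  have hcard : Nat.card (MulAction.fixedPoints (Subgroup.zpowers x) W) = Nat.card (fixed x) := by
    refine Nat.card_congr (Equiv.setCongr (Set.ext fun w => ⟨fun h => h ⟨x, Subgroup.mem_zpowers x⟩, ?_⟩))
    rintro h ⟨y, hy⟩
    have hle : Subgroup.zpowers x ≤ MulAction.stabilizer (MulAut W) w :=
      Subgroup.zpowers_le.2 (MulAction.mem_stabilizer_iff.2 h)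
    exact MulAction.mem_stabilizer_iff.1 (hle hy)
  have hdvd : Nat.card (fixed x) ∣ 2 ^ d := hd ▸ Subgroup.card_subgroup_dvd_card (fixed x)
  obtain ⟨e, he, hcf⟩ := (Nat.dvd_prime_pow Nat.prime_two).1 hdvd
  have hne : e ≠ d := fun h => hx1 <| MulEquiv.ext fun w => by
    have htop : fixed x = ⊤ := Subgroup.eq_top_of_card_eq _ (by rw [hcf, h, hd])
    exact (htop ▸ Subgroup.mem_top w : w ∈ fixed x)
  rw [hcard, hcf, hd] at hmod
  by_contra h10
  have key : ∀ d : ℕ, d < 10 → ∀ e : ℕ, e < d → 2 ^ d % 11 ≠ 2 ^ e % 11 := by decide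
  exact key d (by omega) e (by omega) hmod

end CfsgLib.JankoFour.Recog
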