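import Cfsg.Agent.Lib.JankoFour.Recog.ThreeModule

/-!
# A triple cover has no faithful action on fewer than twelve dimensions
-/

set_option autoImplicit false

namespace CfsgLib.JankoFour.Recog

universe u v

variable {W : Type u} [CommGroup W] [Finite W] {X : Type v} [Group X]

/-- The displacement of an automorphism. -/
def disp (π : MulAut W) : W →* W where
  toFun w := π w * w⁻¹
  map_one' := by simp
  map_mul' a b := by simp [mul_comm, mul_assoc, mul_left_comm]

theorem disp_apply (π : MulAut W) (w : W) : disp π w = π w * w⁻¹ := rfl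

/-- An element `p` of order three with a nonabelian cover above it and an element of order eleven
forces twelve dimensions without fixed points. -/
theorem fixed_point_free (hsq : ∀ w : W, w * w = 1) (hcard : Nat.card W = 2 ^ 12) (ρ : X →* MulAut W)
    {p x a b : X} (hp : ρ p ^ 3 = 1) (hx : ρ x ^ 11 = 1) (hcen : ∀ y : X, Commute (ρ y) (ρ p))
    (ha : ρ a ^ 3 ∈ Subgroup.zpowers (ρ p)) (hb : ρ b ^ 3 ∈ Subgroup.zpowers (ρ p))
    (hc : ∃ k : ℕ, ¬ 3 ∣ k ∧ ρ b * ρ a = ρ p ^ k * (ρ a * ρ b))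
    (hp1 : ρ p ≠ 1) (hker : ∀ K : Subgroup X, K.Normal → ρ.ker ≤ K → x ∈ K → p ∈ K) :
    ∀ w : W, ρ p w = w → w = 1 := by
  obtain ⟨D, hDdef⟩ : ∃ D : Subgroup W, D = (disp (ρ p)).range := ⟨_, rfl⟩
  have hp3 : ∀ w, ρ p (ρ p (ρ p w)) = w := fun w =>
    DFunLike.congr_fun (show ρ p * (ρ p * ρ p) = 1 by rw [← hp, pow_succ', pow_two]) w
  -- invariance
  have hinv : ∀ (y : X), ∀ w ∈ D, ρ y w ∈ D := by
    rw [hDdef]
    rintro y _ ⟨v, rfl⟩
    refine ⟨ρ y v, ?_⟩
    rw [disp_apply, disp_apply, map_mul, map_inv,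
      show ρ y (ρ p v) = ρ p (ρ y v) from DFunLike.congr_fun (hcen y).eq v]
  let res : X →* MulAut D :=
    { toFun := fun y =>
        { toFun := fun w => ⟨ρ y w, hinv y w w.2⟩
          invFun := fun w => ⟨ρ y⁻¹ w, hinv y⁻¹ w w.2⟩
          left_inv := fun w => Subtype.ext (by simp)
          right_inv := fun w => Subtype.ext (by simp)
          map_mul' := fun u v => Subtype.ext (by simp) }
      map_one' := MulEquiv.ext fun w => Subtype.ext (by simp)
      map_mul' := fun y y' => MulEquiv.ext fun w => Subtype.ext (by simp) }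
  have hres : ∀ y (w : D), ((res y w : D) : W) = ρ y w := fun _ _ => rfl
  have hfix : ∀ w : D, res p w = w → w = 1 := by
    rintro ⟨w, hw⟩ hfx
    obtain ⟨v, hv⟩ := (hDdef ▸ hw : w ∈ (disp (ρ p)).range)
    have hfw : ρ p w = w := congrArg Subtype.val hfx
    rw [disp_apply] at hv
    have h1 : ρ p v = w * v := by rw [← hv, inv_mul_cancel_right]
    have h2 := hp3 v
    rw [h1, map_mul, hfw, h1, ← mul_assoc w w v, hsq, one_mul, h1] at h2
    exact Subtype.ext (mul_eq_right.1 h2)
  -- the element of order eleven is nontrivial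
  have hρD : ∀ y : X, res y = 1 → ∀ w ∈ D, ρ y w = w := fun y hy w hw => by
    rw [← hres y ⟨w, hw⟩, hy]; rfl
  have hDbot : D ≠ ⊥ := fun h => hp1 (MulEquiv.ext fun w => by
    have : ρ p w * w⁻¹ = 1 := by
      rw [← Subgroup.mem_bot, ← h, hDdef]; exact ⟨w, rfl⟩
    simpa [mul_inv_eq_one] using this)
  have hx1 : res x ≠ 1 := by
    intro h
    have hle : ρ.ker ≤ res.ker := fun y hy => MulEquiv.ext fun w => Subtype.ext (by
      rw [hres, MonoidHom.mem_ker.1 hy]; rfl)
    have hpk := hker res.ker inferInstance hle h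
    refine hDbot (eq_bot_iff.2 fun w hw => ?_)
    have := hfix ⟨w, hw⟩ (by rw [MonoidHom.mem_ker.1 hpk]; rfl)
    exact congrArg Subtype.val this
  have hD2 : Nat.card D ∣ 2 ^ 12 := hcard ▸ Subgroup.card_subgroup_dvd_card D
  obtain ⟨d, hd12, hd⟩ := (Nat.dvd_prime_pow Nat.prime_two).1 hD2
  have hsqD : ∀ w : D, w * w = 1 := fun w => Subtype.ext (hsq w)
  have h10 : 10 ≤ d := by
    refine ten_le_dim hsqD (x := res x) (MulEquiv.ext fun w => Subtype.ext ?_) hx1 hd hd12
    rw [← map_pow, hres, map_pow, hx]; rfl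
  -- the cover
  obtain ⟨k, hk, hck⟩ := hc
  have hp' : res p ^ 3 = 1 := MulEquiv.ext fun w => Subtype.ext (by rw [← map_pow, hres, map_pow, hp]; rfl)
  have hkey : res p ∈ Subgroup.zpowers (res p ^ k) := by
    have hcop : Nat.Coprime (orderOf (res p)) k :=
      ((Nat.prime_three.coprime_iff_not_dvd.2 hk)).coprime_dvd_left (orderOf_dvd_of_pow_eq_one hp')
    obtain ⟨m, hm⟩ := exists_pow_eq_self_of_coprime hcop.symm
    exact ⟨m, by simpa using hm⟩
  have hfixk : ∀ w : D, (res p ^ k) w = w → w = 1 := fun w hw => hfix w <| by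
    have hle : Subgroup.zpowers (res p ^ k) ≤ MulAction.stabilizer (MulAut D) w :=
      Subgroup.zpowers_le.2 (MulAction.mem_stabilizer_iff.2 hw)
    exact MulAction.mem_stabilizer_iff.1 (hle hkey)
  have hcomm : ∀ y, Commute (res y) (res p ^ k) := fun y => by
    have e : Commute (res y) (res p) := MulEquiv.ext fun w => Subtype.ext (DFunLike.congr_fun (hcen y).eq (w : W))
    exact e.pow_right k
  have hpow : ∀ y, ρ y ^ 3 ∈ Subgroup.zpowers (ρ p) → res y ^ 3 ∈ Subgroup.zpowers (res p ^ k) := by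
    intro y hy
    obtain ⟨i, hi⟩ := Subgroup.mem_zpowers_iff.1 hy
    have e : res y ^ 3 = res p ^ i := MulEquiv.ext fun w => Subtype.ext (by
      rw [← map_pow, ← map_zpow, hres, hres, map_pow, map_zpow, hi])
    rw [e]
    exact Subgroup.zpow_mem _ hkey i
  have h3 : 3 ∣ d := three_dvd_dim hsqD (α := res a) (β := res b) hfixk
    (by rw [← pow_mul, mul_comm, pow_mul, hp', one_pow]) (hpow a ha) (hpow b hb) (hcomm a) (hcomm b)
    (MulEquiv.ext fun w => Subtype.ext (by
      rw [← map_pow, mul_assoc, ← map_mul, ← map_mul, ← map_mul, hres, hres, map_mul, map_mul, map_mul,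
        map_pow, hck])) hd
  have hD : D = ⊤ := Subgroup.eq_top_of_card_eq _ (by rw [hd, hcard, show d = 12 by omega])
  exact fun w hw => congrArg Subtype.val (hfix ⟨w, hD ▸ Subgroup.mem_top w⟩ (Subtype.ext hw))

end CfsgLib.JankoFour.Recog
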